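import Cfsg.Prelude.Def_Spor_ON
import Cfsg.Agent.Lib.InvCoset.Word
import Cfsg.Agent.Lib.ONTable.Words

/-!
# The generators of the presented O'Nan group as letters
-/

set_option autoImplicit false
set_option linter.all false

noncomputable section

namespace Cfsg.Agent.ONGroup

open Cfsg.Spor Cfsg.Agent.InvCoset

def idx : ON.Gen → ℕ
  | .a => 0
  | .b => 1
  | .c => 2
  | .d => 3
  | .e => 4
  | .f => 5
  | .g => 6

/-- The six involutions. -/
def nodes : List ON.Gen := [.a, .b, .c, .d, .e, .f]

/-- The values of the eight letters. -/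
def letterVal {A : Type*} [Group A] (h : ON.Gen → A) : ℕ → A
  | 0 => h .a
  | 1 => h .b
  | 2 => h .c
  | 3 => h .d
  | 4 => h .e
  | 5 => h .f
  | 6 => h .g
  | 7 => (h .g)⁻¹
  | _ => 1

theorem letterVal_idx {A : Type*} [Group A] (h : ON.Gen → A) : ∀ x, letterVal h (idx x) = h x
  | .a => rfl
  | .b => rfl
  | .c => rfl
  | .d => rfl
  | .e => rfl
  | .f => rfl
  | .g => rfl

theorem mem_nodes {x : ON.Gen} (hx : x ∈ coxNodes ON.edges) : x ∈ nodes := by
  revert hx; cases x <;> decide

theorem nodes_mem {x : ON.Gen} (hx : x ∈ nodes) : x ∈ coxNodes ON.edges := by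
  revert hx; cases x <;> decide

theorem paired {A : Type*} [Group A] (h : ON.Gen → A) (hinv : ∀ x ∈ nodes, h x * h x = 1) :
    Paired 8 ONTable.iv (letterVal h) := by
  refine ⟨fun x hx => ?_, fun x hx => ?_⟩
  · interval_cases x <;> decide
  · have e : ∀ y ∈ nodes, (h y)⁻¹ = h y := fun y hy => inv_eq_of_mul_eq_one_right (hinv y hy)
    interval_cases x
    all_goals first
      | exact (e _ (by decide)).symm
      | exact (inv_inv _).symm
      | rfl

/-- The word of the relator of two nodes. -/
def coxWord (p : ON.Gen × ON.Gen) : List ℕ :=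
  (List.replicate (coxLabel ON.edges p.1 p.2) [idx p.1, idx p.2]).flatten

def pairs : List (ON.Gen × ON.Gen) := nodes.flatMap fun x => nodes.map fun y => (x, y)

theorem prodE_coxWord {A : Type*} [Group A] (h : ON.Gen → A) (p : ON.Gen × ON.Gen) :
    prodE (letterVal h) (coxWord p) =
      FreeGroup.lift h ((FreeGroup.of p.1 * FreeGroup.of p.2) ^ coxLabel ON.edges p.1 p.2) := by
  rw [map_pow, map_mul, FreeGroup.lift_apply_of, FreeGroup.lift_apply_of, coxWord]
  induction coxLabel ON.edges p.1 p.2 with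
  | zero => rw [pow_zero]; rfl
  | succ m ih =>
    rw [List.replicate_succ, List.flatten_cons, prodE_append, ih, pow_succ']
    simp only [prodE, mul_one, letterVal_idx]

/-- The words of the further relators. -/
def extraW : List (List ℕ) := ONTable.W0.drop 15

theorem lift_extra {A : Type*} [Group A] (h : ON.Gen → A) (hinv : ∀ x ∈ nodes, h x * h x = 1) :
    ON.extra.map (FreeGroup.lift h) = extraW.map (prodE (letterVal h)) := by
  have ec : (h .c)⁻¹ = h .c := inv_eq_of_mul_eq_one_right (hinv _ (by decide))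
  have ed : (h .d)⁻¹ = h .d := inv_eq_of_mul_eq_one_right (hinv _ (by decide))
  have eb : (h .b)⁻¹ = h .b := inv_eq_of_mul_eq_one_right (hinv _ (by decide))
  have ee : (h .e)⁻¹ = h .e := inv_eq_of_mul_eq_one_right (hinv _ (by decide))
  simp [ON.extra, extraW, ONTable.W0, prodE, letterVal, ON.a, ON.b, ON.c, ON.d, ON.e, ON.f, ON.g,
    pow_succ, mul_assoc, ec, ed, eb, ee]

def coversPairs : List (ON.Gen × ON.Gen) → Bool
  | [] => true
  | p :: l => lmem (coxWord p) (allRots ONTable.iv (ONTable.W0 ++ ONTable.Wsq)) && inRange 8 (coxWord p) &&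
      coversPairs l

theorem coversPairs_spec : ∀ {l : List (ON.Gen × ON.Gen)}, coversPairs l = true →
    ∀ p ∈ l, coxWord p ∈ allRots ONTable.iv (ONTable.W0 ++ ONTable.Wsq)
  | [], _, p, hp => by simp at hp
  | q :: l, h, p, hp => by
    simp only [coversPairs, Bool.and_eq_true] at h
    rcases List.mem_cons.mp hp with rfl | hp
    · exact lmem_spec h.1.1
    · exact coversPairs_spec h.2 p hp

theorem cover_ok : coversPairs pairs = true := by decide +kernel

theorem range_ok : inRange 8 (ONTable.W0 ++ ONTable.Wsq ++ ONTable.Wder).flatten = true := by decide +kernel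

theorem base_range : ∀ w ∈ ONTable.W0 ++ ONTable.Wsq ++ ONTable.Wder, ∀ y ∈ w, y < 8 :=
  fun w hw y hy => inRange_spec range_ok y (List.mem_flatten.mpr ⟨w, hw, hy⟩)

theorem cox_part : subOf (ONTable.W0.take 15) (pairs.map coxWord) = true ∧ ONTable.Wsq.length = 7 := by
  decide +kernel

/-- Values satisfying the words satisfy the relators. -/
theorem relators_of_words {A : Type*} [Group A] (h : ON.Gen → A) (hinv : ∀ x ∈ nodes, h x * h x = 1)
    (hW : ∀ w ∈ ONTable.W0 ++ ONTable.Wsq, prodE (letterVal h) w = 1) :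
    ∀ r ∈ coxRelators ON.edges ∪ {r | r ∈ ON.extra}, FreeGroup.lift h r = 1 := by
  rintro r (⟨x, hx, y, hy, rfl⟩ | hr)
  · rw [← prodE_coxWord h (x, y)]
    refine prodE_allRots (paired h hinv) (fun w hw => base_range w (List.mem_append_left _ hw)) hW _
      (coversPairs_spec cover_ok _ ?_)
    exact List.mem_flatMap.mpr ⟨x, mem_nodes hx, List.mem_map.mpr ⟨y, mem_nodes hy, rfl⟩⟩
  · have hmem : FreeGroup.lift h r ∈ extraW.map (prodE (letterVal h)) :=
      lift_extra h hinv ▸ List.mem_map.mpr ⟨r, hr, rfl⟩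
    obtain ⟨w, hw, e⟩ := List.mem_map.mp hmem
    rw [← e]
    exact hW w (List.mem_append_left _ (List.mem_of_mem_drop hw))

/-- The images in the presented group. -/
abbrev gen (x : ON.Gen) : ON := PresentedGroup.of x

/-- The letters in the presented group. -/
abbrev let8 : ℕ → ON := letterVal gen

theorem lift_gen (r : FreeGroup ON.Gen) :
    FreeGroup.lift gen r = PresentedGroup.mk (coxRelators ON.edges ∪ {r | r ∈ ON.extra}) r := by
  exact DFunLike.congr_fun (FreeGroup.ext_hom (FreeGroup.lift gen)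
    (PresentedGroup.mk (coxRelators ON.edges ∪ {r | r ∈ ON.extra}))
    (fun a => by rw [FreeGroup.lift_apply_of]; rfl)) r

theorem gen_relator {r : FreeGroup ON.Gen} (hr : r ∈ coxRelators ON.edges ∪ {r | r ∈ ON.extra}) :
    FreeGroup.lift gen r = 1 := by
  rw [lift_gen]
  exact PresentedGroup.one_of_mem hr

theorem gen_invol : ∀ x ∈ nodes, gen x * gen x = 1 := fun x hx => by
  have h := gen_relator (Or.inl ⟨x, nodes_mem hx, x, nodes_mem hx, rfl⟩)
  rwa [coxLabel, if_pos rfl, pow_one, map_mul, FreeGroup.lift_apply_of] at h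

theorem let8_paired : Paired 8 ONTable.iv let8 := paired gen gen_invol

theorem let8_base : ∀ w ∈ ONTable.W0 ++ ONTable.Wsq, prodE let8 w = 1 := by
  intro w hw
  rcases List.mem_append.mp hw with hw | hw
  · rw [← List.take_append_drop 15 ONTable.W0] at hw
    rcases List.mem_append.mp hw with hw | hw
    · obtain ⟨p, hp, rfl⟩ := List.mem_map.mp (subOf_spec cox_part.1 w hw)
      rw [prodE_coxWord]
      obtain ⟨x, hx, hxy⟩ := List.mem_flatMap.mp hp
      obtain ⟨y, hy, rfl⟩ := List.mem_map.mp hxy
      exact gen_relator (Or.inl ⟨x, nodes_mem hx, y, nodes_mem hy, rfl⟩)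
    · have hmem : prodE let8 w ∈ ON.extra.map (FreeGroup.lift gen) :=
        lift_extra gen gen_invol ▸ List.mem_map.mpr ⟨w, hw, rfl⟩
      obtain ⟨r, hr, e⟩ := List.mem_map.mp hmem
      rw [← e]
      exact gen_relator (Or.inr hr)
  · simp only [ONTable.Wsq, List.mem_cons, List.not_mem_nil, or_false] at hw
    rcases hw with rfl | rfl | rfl | rfl | rfl | rfl | rfl
    all_goals first
      | (simp only [prodE, mul_one]; exact gen_invol _ (by decide))
      | simp [prodE, letterVal]

theorem let8_top : Subgroup.closure (let8 '' {x | x < 8}) = ⊤ := by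
  rw [eq_top_iff, ← PresentedGroup.closure_range_of, Subgroup.closure_le]
  rintro _ ⟨x, rfl⟩
  refine Subgroup.subset_closure ⟨idx x, ?_, letterVal_idx gen x⟩
  cases x <;> simp [idx]

end Cfsg.Agent.ONGroup
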