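import Cfsg.Agent.Lib.InvCoset.Chain
import Cfsg.Agent.Lib.ONGroup.Gens
import Cfsg.Agent.Lib.ONTable.Chain
import Cfsg.Agent.Lib.ONTable.FactChain

/-!
# At most 3753792 elements are spanned by the six involutions
-/

set_option autoImplicit false
set_option linter.all false

noncomputable section

namespace Cfsg.Agent.ONGroup

open Cfsg.Spor Cfsg.Agent.InvCoset

/-- Every word of a certified list is trivial once it is among the rotations of trivial words. -/
theorem triv_of_rots {R L : List (List ℕ)} (hL : inRange 8 L.flatten = true)
    (h1 : ∀ w ∈ L, prodE let8 w = 1) (h : subOf R (allRots ONTable.iv L) = true) : ∀ w ∈ R, prodE let8 w = 1 :=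
  fun w hw => prodE_allRots let8_paired
    (fun v hv y hy => inRange_spec hL y (List.mem_flatten.mpr ⟨v, hv, hy⟩)) h1 w (subOf_spec h w hw)

theorem rots_base {R : List (List ℕ)} (h : subOf R (allRots ONTable.iv (ONTable.W0 ++ ONTable.Wsq)) = true) :
    ∀ w ∈ R, prodE let8 w = 1 :=
  fun w hw => prodE_allRots let8_paired (fun v hv => base_range v (List.mem_append_left _ hv)) let8_base w
    (subOf_spec h w hw)

theorem chainH_words : ∀ w ∈ ONTable.chainHW, prodE let8 w = 1 := rots_base (by decide +kernel)

theorem baseD_words : ∀ w ∈ ONTable.baseD, prodE let8 w = 1 := rots_base (by decide +kernel)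

theorem triv_d : prodE let8 ONTable.goalD = 1 :=
  loop_triv (C := ONTable.CD) let8 let8_paired (triv_of_rots ONTable.rangeD baseD_words ONTable.rotsD) rfl
    ONTable.startD ONTable.allD _ _ ONTable.loopD

theorem with_goal {R : List (List ℕ)}
    (h : subOf R (allRots ONTable.iv (ONTable.W0 ++ ONTable.Wsq ++ [ONTable.goalD])) = true) :
    ∀ w ∈ R, prodE let8 w = 1 := by
  refine fun w hw => prodE_allRots let8_paired ?_ ?_ w (subOf_spec h w hw)
  · intro v hv
    rcases List.mem_append.mp hv with hv | hv
    · exact base_range v (List.mem_append_left _ hv)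
    · rw [List.mem_singleton] at hv
      exact fun y hy => inRange_spec (by decide +kernel : inRange 8 ONTable.goalD = true) y (hv ▸ hy)
  · intro v hv
    rcases List.mem_append.mp hv with hv | hv
    · exact let8_base v hv
    · rw [List.mem_singleton] at hv
      exact hv ▸ triv_d

theorem chainD_words : ∀ w ∈ ONTable.chainDW, prodE let8 w = 1 := with_goal (by decide +kernel)

theorem baseE_words : ∀ w ∈ ONTable.baseE, prodE let8 w = 1 := with_goal (by decide +kernel)

theorem chainC_words : ∀ w ∈ ONTable.chainCW, prodE let8 w = 1 := rots_base (by decide +kernel)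

theorem chainB_words : ∀ w ∈ ONTable.chainBW, prodE let8 w = 1 := rots_base (by decide +kernel)

theorem chainA_words : ∀ w ∈ ONTable.chainAW, prodE let8 w = 1 := rots_base (by decide +kernel)

theorem paired_small {K : ℕ} (hK : K ≤ 6) : Paired K ONTable.ivH let8 := by
  refine ⟨fun x hx => ?_, fun x hx => ?_⟩
  · have : ivL ONTable.ivH x = x := by
      have hx6 : x < 6 := by omega
      interval_cases x <;> decide
    omega
  · have hx6 : x < 6 := by omega
    have h := let8_paired.inv x (by omega)
    interval_cases x <;> exact h

theorem seedE_mem : prodE let8 ONTable.goalE ∈ spanL let8 [0, 1, 2] := by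
  have h := loop_fix (C := ONTable.CE) (Q := ON ⧸ spanL let8 [0, 1, 2]) let8 (QuotientGroup.mk 1)
    ⟨let8_paired, triv_of_rots ONTable.rangeE baseE_words ONTable.rotsE, fun x hx => ?_⟩
    ONTable.startE ONTable.allE _ _ ONTable.loopE
  · rw [actW_eq, MulAction.Quotient.smul_mk, smul_eq_mul, mul_one, QuotientGroup.eq, mul_one, inv_inv] at h
    exact h
  · rw [MulAction.Quotient.smul_mk, smul_eq_mul, mul_one, QuotientGroup.eq, mul_one, inv_inv]
    exact mem_spanL let8 hx

theorem letter_mem {l : List ℕ} {w : List ℕ} (hw : ∀ y ∈ w, y ∈ l) : prodE let8 w ∈ spanL let8 l := by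
  induction w with
  | nil => exact one_mem _
  | cons y w ih =>
    exact mul_mem (mem_spanL let8 (hw y List.mem_cons_self)) (ih fun z hz => hw z (List.mem_cons_of_mem _ hz))

theorem small_a : Small (spanL let8 [0]) 2 := by
  have h := Small.step ONTable.chainA_certified let8 (paired_small (by decide)) chainA_words
    (small_bot (G := ON)) bot_le (fun s hs => by simp [ONTable.chainASeeds] at hs)
  exact h

theorem small_ab : Small (spanL let8 [0, 1]) 6 := by
  have h := Small.step ONTable.chainB_certified let8 (paired_small (by decide)) chainB_words small_a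
    (spanL_mono let8 (by decide)) (fun s hs => by
      simp only [ONTable.chainBSeeds, List.mem_cons, List.not_mem_nil, or_false] at hs
      subst hs
      exact letter_mem (by decide))
  exact h

theorem small_abc : Small (spanL let8 [0, 1, 2]) 24 := by
  have h := Small.step ONTable.chainC_certified let8 (paired_small (by decide)) chainC_words small_ab
    (spanL_mono let8 (by decide)) (fun s hs => by
      simp only [ONTable.chainCSeeds, List.mem_cons, List.not_mem_nil, or_false] at hs
      rcases hs with rfl | rfl <;> exact letter_mem (by decide))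
  exact h

theorem small_abcd : Small (spanL let8 [0, 1, 2, 3]) 672 := by
  have h := Small.step ONTable.chainD_certified let8 (paired_small (by decide)) chainD_words small_abc
    (spanL_mono let8 (by decide)) (fun s hs => by
      simp only [ONTable.chainDSeeds, List.mem_cons, List.not_mem_nil, or_false] at hs
      rcases hs with rfl | rfl | rfl | rfl
      all_goals first
        | exact seedE_mem
        | exact letter_mem (by decide))
  exact h

theorem small_six : Small (spanL let8 [0, 1, 2, 3, 4, 5]) 3753792 := by
  have h := Small.step ONTable.chainH_certified let8 (paired_small (by decide)) chainH_words small_abcd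
    (spanL_mono let8 (by decide)) (fun s hs => by
      simp only [ONTable.chainHSeeds, List.mem_cons, List.not_mem_nil, or_false] at hs
      rcases hs with rfl | rfl | rfl | rfl <;> exact letter_mem (by decide))
  exact h

end Cfsg.Agent.ONGroup
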