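import Cfsg.Agent.Lib.ONGroup.Gens
import Cfsg.Agent.Lib.ONTable.FactA
import Cfsg.Agent.Lib.ONTable.FactB
import Cfsg.Agent.Lib.ONTable.FactG
import Cfsg.Agent.Lib.ONTable.FactS
import Cfsg.Agent.Lib.ONTable.AllRows
import Cfsg.Agent.Lib.ONTable.AllRels

/-!
# The action on the 122760 cosets
-/

set_option autoImplicit false
set_option linter.all false

noncomputable section

namespace Cfsg.Agent.ONGroup

open Cfsg.Spor Cfsg.Agent.InvCoset

theorem base_of_subOf {R L : List (List ℕ)} (hL : ∀ w ∈ L, ∀ y ∈ w, y < 8)
    (h1 : ∀ w ∈ L, prodE let8 w = 1) (h : subOf R (allRots ONTable.iv L) = true) :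
    ∀ w ∈ R, prodE let8 w = 1 := fun w hw =>
  prodE_allRots let8_paired hL h1 w (subOf_spec h w hw)

theorem base_range' : ∀ w ∈ ONTable.W0 ++ ONTable.Wsq, ∀ y ∈ w, y < 8 :=
  fun w hw => base_range w (List.mem_append_left _ hw)

theorem triv_a : prodE let8 ONTable.goalA = 1 :=
  loop_triv (C := ONTable.CA) let8 let8_paired (base_of_subOf base_range' let8_base ONTable.rotsA) rfl
    ONTable.startA ONTable.allA _ _ ONTable.loopA

theorem triv_b : prodE let8 ONTable.goalB = 1 :=
  loop_triv (C := ONTable.CB) let8 let8_paired (base_of_subOf base_range' let8_base ONTable.rotsB) rfl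
    ONTable.startB ONTable.allB _ _ ONTable.loopB

theorem triv_g : prodE let8 ONTable.goalG = 1 :=
  loop_triv (C := ONTable.CG) let8 let8_paired (base_of_subOf base_range' let8_base ONTable.rotsG) rfl
    ONTable.startG ONTable.allG _ _ ONTable.loopG

theorem let8_words : ∀ w ∈ ONTable.W0 ++ ONTable.Wsq ++ ONTable.Wder, prodE let8 w = 1 := by
  intro w hw
  rcases List.mem_append.mp hw with hw | hw
  · exact let8_base w hw
  · simp only [ONTable.Wder, List.mem_cons, List.not_mem_nil, or_false] at hw
    rcases hw with rfl | rfl | rfl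
    · exact triv_a
    · exact triv_b
    · exact triv_g

/-- The subgroup generated by the six involutions. -/
def hSub : Subgroup ON := Subgroup.closure (let8 '' {x | x < 6})

theorem mem_hSub {x : ℕ} (hx : x < 6) : let8 x ∈ hSub := Subgroup.subset_closure ⟨x, hx, rfl⟩

/-- The six one-letter words. -/
def subWords : List (List ℕ) := [[0], [1], [2], [3], [4], [5]]

theorem hSub_eq : hSub = Subgroup.closure (prodE let8 '' {w | w ∈ subWords}) := by
  unfold hSub
  congr 1
  ext p
  constructor
  · rintro ⟨x, hx, rfl⟩
    simp only [Set.mem_setOf_eq] at hx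
    refine ⟨[x], ?_, mul_one _⟩
    interval_cases x <;> decide
  · rintro ⟨w, hw, rfl⟩
    simp only [subWords, Set.mem_setOf_eq, List.mem_cons, List.not_mem_nil, or_false] at hw
    rcases hw with rfl | rfl | rfl | rfl | rfl | rfl <;> exact ⟨_, by decide, (mul_one _).symm⟩

theorem seed_mem : prodE let8 ONTable.goalS ∈ hSub := by
  have h := loop_fix (C := ONTable.CS) (Q := ON ⧸ hSub) let8 (QuotientGroup.mk 1)
    ⟨let8_paired, base_of_subOf base_range let8_words ONTable.rotsS, fun x hx => ?_⟩
    ONTable.startS ONTable.allS _ _ ONTable.loopS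
  · rw [actW_eq, MulAction.Quotient.smul_mk, smul_eq_mul, mul_one, QuotientGroup.eq, mul_one, inv_inv] at h
    exact h
  · rw [MulAction.Quotient.smul_mk, smul_eq_mul, mul_one, QuotientGroup.eq, mul_one, inv_inv]
    simp only [ONTable.CS, List.mem_cons, List.not_mem_nil, or_false] at hx
    exact mem_hSub (by omega)

theorem seeds_mem : ∀ s ∈ ONTable.seeds, prodE let8 s.2.2 ∈ hSub := by
  intro s hs
  simp only [ONTable.seeds, List.mem_cons, List.not_mem_nil, or_false] at hs
  rcases hs with rfl | rfl | rfl | rfl | rfl | rfl | rfl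
  all_goals first
    | exact seed_mem
    | (simp only [prodE, mul_one]; exact mem_hSub (by decide))

theorem certified : ONTable.table.Certified ONTable.seeds (ONTable.W0 ++ ONTable.Wsq ++ ONTable.Wder) where
  pos := by decide +kernel
  inverse := by decide +kernel
  root := by decide +kernel
  rows := ONTable.rowsAll
  words := base_range
  rots := ONTable.rotsChk
  seedWords := ONTable.seedsChk

/-- The permutations of the cosets given by the generators. -/
def permGen (x : ON.Gen) : Equiv.Perm (Fin ONTable.table.n) := permE certified (idx x)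

theorem permGen_letter : ∀ x < 8, letterVal permGen x = permE certified x := by
  intro x hx
  interval_cases x
  all_goals first
    | rfl
    | exact (((permE_paired certified).inv 6 (by decide))).symm

theorem perm_word {w : List ℕ} (hw : ∀ y ∈ w, y < 8) :
    prodE (letterVal permGen) w = prodE (permE certified) w := by
  induction w with
  | nil => rfl
  | cons y w ih =>
    rw [prodE, prodE, permGen_letter y (hw y List.mem_cons_self), ih fun z hz => hw z (List.mem_cons_of_mem _ hz)]

theorem permGen_invol : ∀ x ∈ nodes, permGen x * permGen x = 1 := by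
  intro x hx
  have h := (permE_paired certified).inv (idx x) (by cases x <;> decide)
  have hi : ivL ONTable.table.iv (idx x) = idx x := by
    revert hx; cases x <;> decide
  rw [hi] at h
  exact mul_eq_one_iff_eq_inv.mpr h

theorem permGen_rel : ∀ r ∈ coxRelators ON.edges ∪ {r | r ∈ ON.extra}, FreeGroup.lift permGen r = 1 := by
  refine relators_of_words permGen permGen_invol fun w hw => ?_
  have hr := base_range' w hw
  rw [perm_word hr]
  rcases List.mem_append.mp hw with h | h
  · exact prodE_permE certified hr fun c hc => fixWords_spec (ONTable.relsAll c hc) w h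
  · simp only [ONTable.Wsq, List.mem_cons, List.not_mem_nil, or_false] at h
    have hinv : ∀ x < 8, permE certified x * permE certified (ivL ONTable.table.iv x) = 1 := fun x hx => by
      rw [(permE_paired certified).inv x hx, mul_inv_cancel]
    rcases h with rfl | rfl | rfl | rfl | rfl | rfl | rfl
    all_goals
      simp only [prodE, mul_one]
      exact hinv _ (by decide)

/-- The action on the cosets. -/
def act122760 : ON →* Equiv.Perm (Fin ONTable.table.n) := PresentedGroup.toGroup permGen_rel

theorem act_letter : ∀ x < ONTable.table.K, act122760 (let8 x) = permE certified x := by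
  intro x hx
  have hx' : x < 8 := hx
  rw [← permGen_letter x hx']
  have hof : ∀ y, act122760 (gen y) = permGen y := fun y => PresentedGroup.toGroup.of permGen_rel
  interval_cases x
  all_goals first
    | exact hof _
    | exact (map_inv act122760 _).trans (congrArg _ (hof _))

theorem subWords_range : ∀ w ∈ subWords, ∀ y ∈ w, y < ONTable.table.K := fun w hw y hy =>
  inRange_spec (K := ONTable.table.K) (w := subWords.flatten) (by decide) y (List.mem_flatten.mpr ⟨w, hw, hy⟩)

theorem zero_fix : ONTable.table.fixWords 0 subWords = true := by decide +kernel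

theorem hSub_index : hSub.index = ONTable.table.n :=
  index_eq_rows certified let8 act122760 act_letter let8_paired let8_words subWords subWords_range zero_fix
    seeds_mem let8_top hSub_eq

theorem hSub_map : ((Subgroup.closure ({ON.a, ON.b, ON.c, ON.d, ON.e, ON.f} : Set (FreeGroup ON.Gen))).map
    (PresentedGroup.mk (coxRelators ON.edges ∪ {r | r ∈ ON.extra}))) = hSub := by
  rw [MonoidHom.map_closure]
  unfold hSub
  congr 1
  ext p
  constructor
  · rintro ⟨r, hr, rfl⟩
    simp only [Set.mem_insert_iff, Set.mem_singleton_iff] at hr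
    rcases hr with rfl | rfl | rfl | rfl | rfl | rfl
    · exact ⟨0, by decide, rfl⟩
    · exact ⟨1, by decide, rfl⟩
    · exact ⟨2, by decide, rfl⟩
    · exact ⟨3, by decide, rfl⟩
    · exact ⟨4, by decide, rfl⟩
    · exact ⟨5, by decide, rfl⟩
  · rintro ⟨x, hx, rfl⟩
    simp only [Set.mem_setOf_eq] at hx
    interval_cases x
    · exact ⟨ON.a, by simp, rfl⟩
    · exact ⟨ON.b, by simp, rfl⟩
    · exact ⟨ON.c, by simp, rfl⟩
    · exact ⟨ON.d, by simp, rfl⟩
    · exact ⟨ON.e, by simp, rfl⟩
    · exact ⟨ON.f, by simp, rfl⟩

end Cfsg.Agent.ONGroup
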