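import Cfsg.Agent.Lib.ONGroup.Index
import Cfsg.Agent.Lib.ONGroup.Bound
import Cfsg.Agent.Lib.ONTable.AllOrb
import Cfsg.Prelude.Def_Sporadic

/-!
# The presented O'Nan group is simple of order 460815505920
-/

set_option autoImplicit false
set_option linter.all false

noncomputable section

namespace Cfsg.Agent.ONGroup

open Cfsg.Spor Cfsg.Agent.InvCoset

/-- The rows. -/
abbrev Row : Type := Fin ONTable.table.n

theorem hSub_eq_span : hSub = spanL let8 [0, 1, 2, 3, 4, 5] := by
  unfold hSub spanL
  congr 1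
  apply congrArg
  ext x
  simp only [Set.mem_setOf_eq, List.mem_cons, List.not_mem_nil, or_false]
  omega

instance hSub_finite : Finite hSub := hSub_eq_span ▸ small_six.1

theorem hSub_card_le : Nat.card hSub ≤ 3753792 := hSub_eq_span ▸ small_six.2

/-- The first row. -/
def row0 : Row := ⟨0, certified.pos⟩

theorem act_transitive (c : Row) : ∃ a : ON, act122760 a row0 = c := by
  obtain ⟨ρ, hρ0, hρ⟩ := rows_equiv certified let8 act122760 act_letter let8_paired let8_words subWords
    subWords_range zero_fix seeds_mem let8_top hSub_eq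
  obtain ⟨a, ha⟩ := QuotientGroup.mk_surjective (ρ c)
  refine ⟨a, ρ.injective ?_⟩
  rw [← hρ, row0, hρ0, MulAction.Quotient.smul_mk, smul_eq_mul, mul_one, ha]

theorem mem_hSub_iff (a : ON) : a ∈ hSub ↔ act122760 a row0 = row0 := by
  obtain ⟨ρ, hρ0, hρ⟩ := rows_equiv certified let8 act122760 act_letter let8_paired let8_words subWords
    subWords_range zero_fix seeds_mem let8_top hSub_eq
  rw [← ρ.apply_eq_iff_eq, ← hρ, row0, hρ0, MulAction.Quotient.smul_mk, smul_eq_mul, mul_one, QuotientGroup.eq,
    mul_one, inv_mem_iff]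

instance finite_ON : Finite ON := by
  have hq : hSub.index ≠ 0 := by rw [hSub_index]; exact (certified.pos).ne'
  haveI : Finite (ON ⧸ hSub) := Nat.finite_of_card_ne_zero hq
  exact Finite.of_equiv _ (Subgroup.groupEquivQuotientProdSubgroup (s := hSub)).symm

/-- The part of a subgroup fixing a row. -/
def fixIn (H : Subgroup ON) (c : Row) : Subgroup ON :=
  H ⊓ (MulAction.stabilizer (Equiv.Perm Row) c).comap act122760

theorem mem_fixIn {H : Subgroup ON} {c : Row} {a : ON} : a ∈ fixIn H c ↔ a ∈ H ∧ act122760 a c = c := Iff.rfl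

/-- The orbit and the stabiliser. -/
theorem orbit_mul_le (H : Subgroup ON) (c : Row) (S : Finset Row) (hS : ∀ s ∈ S, ∃ h ∈ H, act122760 h c = s) :
    S.card * Nat.card (fixIn H c) ≤ Nat.card H := by
  classical
  choose! f hf hf' using hS
  haveI : Finite (fixIn H c) := Subtype.finite
  have hinj : Function.Injective fun p : S × fixIn H c =>
      (⟨f p.1 * p.2, mul_mem (hf _ p.1.2) (mem_fixIn.mp p.2.2).1⟩ : H) := by
    rintro ⟨s, h⟩ ⟨s', h'⟩ he
    have he' : f s * (h : ON) = f s' * h' := congrArg Subtype.val he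
    have hss : (s : Row) = s' := by
      have := congrArg (fun a => act122760 a c) he'
      simpa only [map_mul, Equiv.Perm.mul_apply, (mem_fixIn.mp h.2).2, (mem_fixIn.mp h'.2).2, hf' _ s.2,
        hf' _ s'.2] using this
    obtain rfl : s = s' := Subtype.ext hss
    exact Prod.ext rfl (Subtype.ext (mul_left_cancel he'))
  have h := Nat.card_le_card_of_injective _ hinj
  rwa [Nat.card_prod, Nat.card_eq_finsetCard] at h

/-- Rows with a given label. -/
def labSet (l : ℕ) : Finset Row := Finset.univ.filter fun c => ONTable.orbits.lab c = l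

theorem labSet_card (l : ℕ) :
    (labSet l).card = ((Finset.range 122760).filter fun c => ONTable.orbits.lab c = l).card := by
  refine Finset.card_bij (fun c _ => (c : ℕ)) (fun c hc => ?_) (fun a _ b _ h => Fin.ext h) fun b hb => ?_
  · simp only [Finset.mem_filter, Finset.mem_range]
    exact ⟨c.2, (Finset.mem_filter.mp hc).2⟩
  · simp only [Finset.mem_filter, Finset.mem_range] at hb
    exact ⟨⟨b, hb.1⟩, Finset.mem_filter.mpr ⟨Finset.mem_univ _, hb.2⟩, rfl⟩

theorem same_lab {c c' : Row} (h : ONTable.orbits.lab c = ONTable.orbits.lab c') :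
    ∃ a ∈ hSub, act122760 a c = c' := by
  obtain ⟨a, ha, r, hr, hra⟩ := lab_orbit (B := ONTable.orbits) certified let8 act122760 act_letter hSub (by decide)
    (fun x hx => mem_hSub hx) let8_paired ONTable.orbAll _ c rfl
  obtain ⟨b, hb, r', hr', hrb⟩ := lab_orbit (B := ONTable.orbits) certified let8 act122760 act_letter hSub (by decide)
    (fun x hx => mem_hSub hx) let8_paired ONTable.orbAll _ c' rfl
  obtain rfl : r = r' := Fin.ext (by rw [hr, hr', h])
  refine ⟨b * a⁻¹, mul_mem hb (inv_mem ha), ?_⟩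
  rw [map_mul, Equiv.Perm.mul_apply, map_inv, ← hra, Equiv.Perm.coe_inv, Equiv.symm_apply_apply, hrb]

/-- The row in the orbit of length 5586. -/
def row1 : Row := ⟨3, by decide +kernel⟩

/-- The row in the regular orbit. -/
def row2 : Row := ⟨113129, by decide +kernel⟩

theorem fix_four : ∀ x < 4, let8 x ∈ fixIn hSub row1 := by
  intro x hx
  refine mem_fixIn.mpr ⟨mem_hSub (by omega), ?_⟩
  have hxK : x < ONTable.table.K := Nat.lt_of_lt_of_le hx (by decide)
  rw [act_letter x hxK, ← Equiv.Perm.eq_inv_iff_eq]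
  refine Fin.ext ?_
  rw [permE_inv_apply certified hxK]
  interval_cases x <;> decide +kernel

theorem base_bound : Nat.card hSub = 3753792 ∧ Nat.card (fixIn (fixIn hSub row1) row2) = 1 := by
  have h1 := orbit_mul_le hSub row1 (labSet (ONTable.orbits.lab row1)) fun s hs =>
    same_lab ((Finset.mem_filter.mp hs).2).symm
  rw [labSet_card, show ONTable.orbits.lab row1 = 2 by decide +kernel, ONTable.count2] at h1
  have hlt : ∀ p ∈ ONTable.spanPts, p < ONTable.table.n := by
    have h : inRange ONTable.table.n ONTable.spanPts = true := by decide +kernel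
    exact inRange_spec h
  let S : Finset Row := Finset.univ.filter fun c => (c : ℕ) ∈ ONTable.spanPts
  have hS : S.card = 672 := by
    rw [← ONTable.span_len, ← List.toFinset_card_of_nodup (distinctL_spec ONTable.span_distinct)]
    refine Finset.card_bij (fun c _ => (c : ℕ)) (fun c hc => ?_) (fun a _ b _ h => Fin.ext h) fun b hb => ?_
    · exact List.mem_toFinset.mpr (Finset.mem_filter.mp hc).2
    · rw [List.mem_toFinset] at hb
      exact ⟨⟨b, hlt b hb⟩, Finset.mem_filter.mpr ⟨Finset.mem_univ _, hb⟩, rfl⟩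
  have h2 := orbit_mul_le (fixIn hSub row1) row2 S fun s hs => by
    obtain ⟨i, hi, hrow⟩ := exists_rootOf (Finset.mem_filter.mp hs).2
    obtain ⟨a, ha, he⟩ := span_orbit certified let8 act122760 act_letter (fixIn hSub row1) (by decide) fix_four
      ONTable.span_ok row2 (by decide +kernel) i hi
    exact ⟨a, ha, Fin.ext (he.trans hrow)⟩
  rw [hS] at h2
  have h3 := hSub_card_le
  have h4 : 0 < Nat.card (fixIn (fixIn hSub row1) row2) := Nat.card_pos
  constructor <;> nlinarith

theorem act_injective : Function.Injective act122760 := by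
  rw [← MonoidHom.ker_eq_bot_iff, Subgroup.eq_bot_iff_forall]
  intro a ha
  rw [MonoidHom.mem_ker] at ha
  have h : a ∈ fixIn (fixIn hSub row1) row2 :=
    mem_fixIn.mpr ⟨mem_fixIn.mpr ⟨(mem_hSub_iff a).mpr (by rw [ha]; rfl), by rw [ha]; rfl⟩, by rw [ha]; rfl⟩
  haveI := (Nat.card_eq_one_iff_unique.mp base_bound.2).1
  exact congrArg Subtype.val (Subsingleton.elim (⟨a, h⟩ : fixIn (fixIn hSub row1) row2) 1)

theorem card_ON : Nat.card ON = 460815505920 := by
  rw [← hSub.card_mul_index, base_bound.1, hSub_index]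
  rfl

/-- An element fixing three rows is trivial. -/
theorem one_of_three {a : ON} (h0 : act122760 a row0 = row0) (h1 : act122760 a row1 = row1)
    (h2 : act122760 a row2 = row2) : a = 1 := by
  have h : a ∈ fixIn (fixIn hSub row1) row2 := mem_fixIn.mpr ⟨mem_fixIn.mpr ⟨(mem_hSub_iff a).mpr h0, h1⟩, h2⟩
  haveI := (Nat.card_eq_one_iff_unique.mp base_bound.2).1
  exact congrArg Subtype.val (Subsingleton.elim (⟨a, h⟩ : fixIn (fixIn hSub row1) row2) 1)

/-- Whether a word fixes the three rows. -/
def fixesThree (w : List ℕ) : Bool :=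
  inRange 8 w && Nat.beq (ONTable.table.runW w 0) 0 && Nat.beq (ONTable.table.runW w 3) 3 &&
    Nat.beq (ONTable.table.runW w 113129) 113129

/-- A word fixing the three rows is trivial. -/
theorem word_one {w : List ℕ} (h : fixesThree w = true) : prodE let8 w = 1 := by
  simp only [fixesThree, Bool.and_eq_true] at h
  obtain ⟨⟨⟨hr, h0⟩, h1⟩, h2⟩ := h
  have hrng : ∀ y ∈ w, y < ONTable.table.K := inRange_spec (K := 8) hr
  have key : ∀ c : Row, ONTable.table.runW w c = c → act122760 (prodE let8 w)⁻¹ c = c := by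
    intro c hc
    rw [map_inv, map_prodE_permE certified let8 act122760 act_letter w hrng, ← Equiv.Perm.smul_def, ← actW_eq]
    exact Fin.ext ((actW_permE certified w hrng c).trans hc)
  have := one_of_three (key row0 (Nat.eq_of_beq_eq_true h0)) (key row1 (Nat.eq_of_beq_eq_true h1))
    (key row2 (Nat.eq_of_beq_eq_true h2))
  exact inv_eq_one.mp this

theorem flatten_prodE (u : List ℕ) : ∀ k : ℕ, prodE let8 (List.replicate k u).flatten = prodE let8 u ^ k
  | 0 => by rw [pow_zero]; rfl
  | k + 1 => by rw [List.replicate_succ, List.flatten_cons, prodE_append, flatten_prodE u k, pow_succ']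

/-- The witness words: two elements of order five with product the first generator. -/
theorem witness : prodE let8 [1, 6, 2, 7] ^ 5 = 1 ∧ prodE let8 [6, 2, 7, 1, 0] ^ 5 = 1 ∧
    prodE let8 [1, 6, 2, 7] * prodE let8 [6, 2, 7, 1, 0] = let8 0 := by
  refine ⟨?_, ?_, ?_⟩
  · rw [← flatten_prodE]; exact word_one (by decide +kernel)
  · rw [← flatten_prodE]; exact word_one (by decide +kernel)
  · have h : ∀ x < 6, let8 x * let8 x = 1 := fun x hx => by
      interval_cases x <;> exact gen_invol _ (by decide)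
    have h7 : let8 7 = (let8 6)⁻¹ := rfl
    simp only [prodE, mul_one, mul_assoc, h7]
    rw [inv_mul_cancel_left, ← mul_assoc (let8 2) (let8 2), h 2 (by decide), one_mul, ← mul_assoc (let8 6),
      mul_inv_cancel, one_mul, ← mul_assoc (let8 1), h 1 (by decide), one_mul]

/-- A subgroup above the six involutions is everything or nothing more. -/
theorem eq_or_top_of_le {K : Subgroup ON} (hK : hSub ≤ K) : K ≤ hSub ∨ K = ⊤ := by
  classical
  letI : MulAction ON Row := MulAction.compHom Row act122760
  let A : Finset Row := Finset.univ.filter fun c => ∃ k ∈ K, act122760 k row0 = c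
  have hA : A.card = Nat.card (MulAction.orbit K row0) := by
    rw [← Nat.card_eq_finsetCard]
    refine Nat.card_congr (Equiv.subtypeEquivRight fun c => ?_)
    simp only [A, Finset.mem_filter, Finset.mem_univ, true_and]
    constructor
    · rintro ⟨k, hk, rfl⟩; exact ⟨⟨k, hk⟩, rfl⟩
    · rintro ⟨⟨k, hk⟩, rfl⟩; exact ⟨k, hk, rfl⟩
  have hstab : Nat.card (MulAction.stabilizer K row0) = Nat.card hSub :=
    Nat.card_congr
      { toFun := fun k => ⟨k.1.1, (mem_hSub_iff _).mpr k.2⟩
        invFun := fun a => ⟨⟨a.1, hK a.2⟩, (mem_hSub_iff _).mp a.2⟩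
        left_inv := fun k => rfl
        right_inv := fun a => rfl }
  have hmul : A.card * Nat.card hSub = Nat.card K := by
    rw [hA, ← hstab, ← Nat.card_prod]
    exact Nat.card_congr (MulAction.orbitProdStabilizerEquivGroup K row0)
  have hdiv : A.card * K.index = 122760 := by
    have h := K.card_mul_index
    rw [card_ON, ← hmul, base_bound.1] at h
    nlinarith
  let T := A.image fun c : Row => ONTable.orbits.lab c
  have h0T : 0 ∈ T := Finset.mem_image.mpr
    ⟨row0, Finset.mem_filter.mpr ⟨Finset.mem_univ _, 1, one_mem K, by rw [map_one]; rfl⟩, by decide +kernel⟩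
  have hlab : ∀ c : Row, ONTable.orbits.lab c < 5 := by
    intro c
    by_contra hcon
    push Not at hcon
    have htot : (labSet 0 ∪ labSet 1 ∪ labSet 2 ∪ labSet 3 ∪ labSet 4).card = 122760 := by
      have hd : ∀ i j, i ≠ j → Disjoint (labSet i) (labSet j) := fun i j hij =>
        Finset.disjoint_filter.mpr fun x _ h h' => hij (h ▸ h')
      rw [Finset.card_union_of_disjoint, Finset.card_union_of_disjoint, Finset.card_union_of_disjoint,
        Finset.card_union_of_disjoint, labSet_card, labSet_card, labSet_card, labSet_card, labSet_card,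
        ONTable.count0, ONTable.count1, ONTable.count2, ONTable.count3, ONTable.count4]
      all_goals try simp only [Finset.disjoint_union_left]
      all_goals first
        | exact hd _ _ (by decide)
        | exact ⟨hd _ _ (by decide), hd _ _ (by decide)⟩
        | exact ⟨⟨hd _ _ (by decide), hd _ _ (by decide)⟩, hd _ _ (by decide)⟩
        | exact ⟨⟨⟨hd _ _ (by decide), hd _ _ (by decide)⟩, hd _ _ (by decide)⟩, hd _ _ (by decide)⟩
    have hc : c ∈ labSet 0 ∪ labSet 1 ∪ labSet 2 ∪ labSet 3 ∪ labSet 4 := by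
      rw [Finset.eq_univ_of_card _ (htot.trans (Fintype.card_fin _).symm)]
      exact Finset.mem_univ c
    simp only [labSet, Finset.mem_union, Finset.mem_filter, Finset.mem_univ, true_and] at hc
    omega
  have hAT : A.card = ∑ l ∈ T, (labSet l).card := by
    rw [Finset.card_eq_sum_card_image (fun c : Row => ONTable.orbits.lab c) A]
    refine Finset.sum_congr rfl fun l hl => congrArg Finset.card (Finset.ext fun c => ?_)
    simp only [labSet, Finset.mem_filter]
    refine ⟨fun h => ⟨Finset.mem_univ _, h.2⟩, fun h' => ⟨?_, h'.2⟩⟩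
    have h := h'.2
    obtain ⟨c0, hc0, hl0⟩ := Finset.mem_image.mp hl
    obtain ⟨k, hk, hk0⟩ := (Finset.mem_filter.mp hc0).2
    obtain ⟨a, ha, hac⟩ := same_lab (hl0.trans h.symm)
    exact Finset.mem_filter.mpr ⟨Finset.mem_univ _, a * k, mul_mem (hK ha) hk, by
      rw [map_mul, Equiv.Perm.mul_apply, hk0, hac]⟩
  let f : ℕ → ℕ := fun l => [1, 58653, 5586, 52136, 6384].getD l 0
  have hf : ∀ l ∈ T, (labSet l).card = f l := by
    intro l hl
    obtain ⟨c0, -, hl0⟩ := Finset.mem_image.mp hl
    have h5 : l < 5 := hl0 ▸ hlab c0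
    rw [labSet_card]
    interval_cases l
    · exact ONTable.count0
    · exact ONTable.count1
    · exact ONTable.count2
    · exact ONTable.count3
    · exact ONTable.count4
  have hTsub : T ∈ (Finset.range 5).powerset := Finset.mem_powerset.mpr fun l hl => by
    obtain ⟨c0, -, hl0⟩ := Finset.mem_image.mp hl
    exact Finset.mem_range.mpr (hl0 ▸ hlab c0)
  have hall : ∀ U ∈ (Finset.range 5).powerset, 0 ∈ U → (∑ l ∈ U, f l) ∣ 122760 →
      (∑ l ∈ U, f l) = 1 ∨ (∑ l ∈ U, f l) = 122760 := by decide +kernel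
  have hsum : A.card = ∑ l ∈ T, f l := hAT.trans (Finset.sum_congr rfl hf)
  rcases hall T hTsub h0T (hsum ▸ ⟨_, hdiv.symm⟩) with h | h
  · refine Or.inl fun k hk => (mem_hSub_iff k).mpr ?_
    exact Finset.card_le_one.mp (show A.card ≤ 1 by omega) (act122760 k row0)
      (Finset.mem_filter.mpr ⟨Finset.mem_univ _, k, hk, rfl⟩) row0
      (Finset.mem_filter.mpr ⟨Finset.mem_univ _, 1, one_mem K, by rw [map_one]; rfl⟩)
  · refine Or.inr (Subgroup.index_eq_one.mp ?_)
    rw [hsum, h] at hdiv
    omega

theorem simple_ON : IsSimpleGroup ON := by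
  haveI : Nontrivial ON := Finite.one_lt_card_iff_nontrivial.mp (by rw [card_ON]; decide)
  refine ⟨fun N hN => ?_⟩
  rcases eq_or_ne N ⊥ with hbot | hbot
  · exact Or.inl hbot
  right
  haveI := hN
  have htop : N ⊔ hSub = ⊤ := by
    refine (eq_or_top_of_le le_sup_right).resolve_left fun h => hbot ?_
    rw [Subgroup.eq_bot_iff_forall]
    intro a ha
    refine act_injective ?_
    rw [map_one]
    refine Equiv.ext fun c => ?_
    obtain ⟨g, rfl⟩ := act_transitive c
    have hm : g⁻¹ * a * g ∈ hSub := h (Subgroup.mem_sup_left (by simpa using hN.conj_mem a ha g⁻¹))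
    have h0 := (mem_hSub_iff _).mp hm
    rw [Equiv.Perm.one_apply]
    conv_rhs => rw [← h0, ← Equiv.Perm.mul_apply, ← map_mul]
    rw [← Equiv.Perm.mul_apply, ← map_mul]
    congr 2
    group
  have hdiv : N.index ∣ 3753792 := by
    rw [← base_bound.1]
    have h1 : N.index = N.relIndex hSub := by
      rw [← Subgroup.relIndex_top_right, ← htop, Subgroup.relIndex_sup_left]
    rw [h1]
    exact Subgroup.relIndex_dvd_card N hSub
  have hfive : ∀ u : ON, u ^ 5 = 1 → u ∈ N := by
    intro u hu
    rw [← QuotientGroup.eq_one_iff]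
    have h1 : orderOf (u : ON ⧸ N) ∣ 5 := orderOf_dvd_of_pow_eq_one (by rw [← QuotientGroup.mk_pow, hu]; rfl)
    rcases (Nat.dvd_prime (by norm_num)).mp h1 with h | h
    · exact orderOf_eq_one_iff.mp h
    · have h2 : orderOf (u : ON ⧸ N) ∣ N.index := Subgroup.index_eq_card N ▸ orderOf_dvd_natCard _
      exact absurd ((h ▸ h2).trans hdiv) (by norm_num)
  obtain ⟨hu, hv, huv⟩ := witness
  set q := QuotientGroup.mk' N
  have hr : ∀ w ∈ ONTable.W0, prodE (fun x => q (let8 x)) w = 1 := fun w hw => by
    rw [← map_prodE, let8_base w (List.mem_append_left _ hw), map_one]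
  have hi : ∀ x < 6, q (let8 x) * q (let8 x) = 1 := fun x hx => by
    have hx1 : let8 x * let8 x = 1 := by interval_cases x <;> exact gen_invol _ (by decide)
    rw [← map_mul, hx1, map_one]
  have h0 : q (let8 0) = 1 := by
    rw [← huv, map_mul, show q (prodE let8 [1, 6, 2, 7]) = 1 from (QuotientGroup.eq_one_iff _).mpr (hfive _ hu),
      show q (prodE let8 [6, 2, 7, 1, 0]) = 1 from (QuotientGroup.eq_one_iff _).mpr (hfive _ hv), one_mul]
  have tri : ∀ s t : ON ⧸ N, s = 1 → t * t = 1 → s * (t * (s * (t * (s * t)))) = 1 → t = 1 := by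
    intro s t hs ht h
    subst hs
    simpa [ht] using h
  have tri' : ∀ s t : ON ⧸ N, t = 1 → s * s = 1 → s * (t * (s * (t * (s * t)))) = 1 → s = 1 := by
    intro s t ht hs h
    subst ht
    simpa [hs] using h
  have h1 : q (let8 1) = 1 := tri _ _ h0 (hi 1 (by decide))
    (by simpa [prodE] using hr [0, 1, 0, 1, 0, 1] (by decide))
  have h2 : q (let8 2) = 1 := tri _ _ h1 (hi 2 (by decide))
    (by simpa [prodE] using hr [1, 2, 1, 2, 1, 2] (by decide))
  have h5 : q (let8 5) = 1 := by
    have h := hr [0, 5, 3, 2, 3, 2, 3, 2, 3, 2] (by decide)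
    simpa [prodE, h0, h2, hi 3 (by decide)] using h
  have h4 : q (let8 4) = 1 := tri' _ _ h5 (hi 4 (by decide))
    (by simpa [prodE] using hr [4, 5, 4, 5, 4, 5] (by decide))
  have h3 : q (let8 3) = 1 := tri' _ _ h4 (hi 3 (by decide))
    (by simpa [prodE] using hr [3, 4, 3, 4, 3, 4] (by decide))
  have h7 : q (let8 7) = (q (let8 6))⁻¹ := map_inv q _
  have h6 : q (let8 6) = 1 := by
    have ha : (q (let8 6))⁻¹ * (q (let8 6))⁻¹ = 1 := by
      simpa [prodE, h0, h5, h7] using hr [0, 5, 7, 7] (by decide)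
    have hb : q (let8 6) * (q (let8 6) * (q (let8 6) * (q (let8 6) * q (let8 6)))) = 1 := by
      simpa [prodE, h1, h2, h3] using
        hr [1, 2, 3, 6, 1, 2, 3, 6, 1, 2, 3, 6, 1, 2, 3, 6, 1, 2, 3, 6] (by decide)
    have ha' : q (let8 6) * q (let8 6) = 1 := by
      rw [← inv_inj, _root_.mul_inv_rev, ha, inv_one]
    rw [ha', mul_one, ha', mul_one] at hb
    exact hb
  rw [eq_top_iff, ← let8_top, Subgroup.closure_le]
  rintro _ ⟨x, hx, rfl⟩
  simp only [Set.mem_setOf_eq] at hx
  show let8 x ∈ N
  rw [← QuotientGroup.eq_one_iff]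
  show q (let8 x) = 1
  interval_cases x
  · exact h0
  · exact h1
  · exact h2
  · exact h3
  · exact h4
  · exact h5
  · exact h6
  · rw [h7, h6, inv_one]

theorem isON : Cfsg.IsON ON := ⟨simple_ON, card_ON⟩

end Cfsg.Agent.ONGroup
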