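import Cfsg.Agent.Lib.ONGroup.Six
import Cfsg.Agent.Lib.ONGroup.Simple
import Cfsg.Agent.Lib.AutPSL.Basic
import Cfsg.Agent.Lib.Classical.PermModel

/-!
# The point stabiliser of the presented O'Nan group has a subgroup of index 2 isomorphic to PSL(3,7)
-/

set_option autoImplicit false
set_option linter.all false
set_option maxRecDepth 100000

noncomputable section

namespace Cfsg.Agent.ONGroup.PSLModel

open Cfsg.Spor Cfsg.Agent.InvCoset Matrix

local instance fact_seven : Fact (Nat.Prime 7) := ⟨by norm_num⟩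

abbrev L37 : Type := Matrix.ProjectiveSpecialLinearGroup (Fin 3) (ZMod 7)
abbrev S37 : Type := Matrix.SpecialLinearGroup (Fin 3) (ZMod 7)

theorem iota_sq : (AutPSL.Basic.iota : MulAut L37) * AutPSL.Basic.iota = 1 := by
  rw [AutPSL.Basic.iota, ← map_mul]
  have h : (AutPSL.Basic.iotaSL : MulAut S37) * AutPSL.Basic.iotaSL = 1 := by
    refine MulEquiv.ext fun s => ?_
    exact AutPSL.Basic.iotaSL.left_inv s
  rw [h, map_one]

/-- The group of order two acting by inverse transpose. -/
def twist : Multiplicative (ZMod 2) →* MulAut L37 where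
  toFun z := if z = 1 then 1 else AutPSL.Basic.iota
  map_one' := if_pos rfl
  map_mul' y z := by
    have h : ∀ u : Multiplicative (ZMod 2), u = 1 ∨ u = Multiplicative.ofAdd 1 := by decide
    have h1 : ¬ (Multiplicative.ofAdd (1 : ZMod 2) = 1) := by decide
    have h2 : Multiplicative.ofAdd (1 : ZMod 2) * Multiplicative.ofAdd 1 = 1 := by decide
    rcases h y with rfl | rfl <;> rcases h z with rfl | rfl <;> simp [h1, h2, iota_sq]

/-- PSL(3,7) extended by inverse transpose. -/
abbrev Ext : Type := L37 ⋊[twist] Multiplicative (ZMod 2)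

/-- Nine entries. -/
abbrev Nine : Type := ZMod 7 × ZMod 7 × ZMod 7 × ZMod 7 × ZMod 7 × ZMod 7 × ZMod 7 × ZMod 7 × ZMod 7

def toMat : Nine → Matrix (Fin 3) (Fin 3) (ZMod 7)
  | (a, b, c, d, e, f, g, h, i) => !![a, b, c; d, e, f; g, h, i]

def mul9 : Nine → Nine → Nine
  | (a, b, c, d, e, f, g, h, i), (a', b', c', d', e', f', g', h', i') =>
    (a * a' + b * d' + c * g', a * b' + b * e' + c * h', a * c' + b * f' + c * i',
     d * a' + e * d' + f * g', d * b' + e * e' + f * h', d * c' + e * f' + f * i',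
     g * a' + h * d' + i * g', g * b' + h * e' + i * h', g * c' + h * f' + i * i')

set_option synthInstance.maxSize 2000 in
instance nine_dec : DecidableEq Nine := inferInstance

theorem toMat_mul : ∀ x y : Nine, toMat (mul9 x y) = toMat x * toMat y
  | (a, b, c, d, e, f, g, h, i), (a', b', c', d', e', f', g', h', i') => by
    ext p q
    fin_cases p <;> fin_cases q <;> simp [toMat, mul9, Matrix.mul_apply, Fin.sum_univ_three]

def one9 : Nine := (1, 0, 0, 0, 1, 0, 0, 0, 1)

theorem toMat_one : toMat one9 = 1 := by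
  ext p q
  fin_cases p <;> fin_cases q <;> simp [toMat, one9]

def mA0 : Nine := (1, 0, 0, 0, 1, 0, 0, 0, 1)

def mA1 : Nine := (1, 0, 0, 0, 2, 0, 0, 0, 4)

def mA2 : Nine := (1, 2, 2, 2, 1, 5, 2, 5, 1)

def mA3 : Nine := (0, 0, 3, 0, 3, 0, 3, 0, 0)

def mA4 : Nine := (0, 1, 0, 1, 0, 0, 0, 0, 6)

def mA5 : Nine := (0, 0, 1, 0, 6, 0, 1, 0, 0)

/-- The matrices of the six involutions. -/
def mA : ℕ → Nine
  | 0 => mA0
  | 1 => mA1
  | 2 => mA2
  | 3 => mA3
  | 4 => mA4
  | 5 => mA5
  | _ => one9

/-- Their inverses. -/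
def mB : ℕ → Nine
  | 0 => (1, 0, 0, 0, 1, 0, 0, 0, 1)
  | 1 => (1, 0, 0, 0, 4, 0, 0, 0, 2)
  | 2 => (4, 1, 1, 1, 4, 6, 1, 6, 4)
  | 3 => (0, 0, 5, 0, 5, 0, 5, 0, 0)
  | 4 => (0, 1, 0, 1, 0, 0, 0, 0, 6)
  | 5 => (0, 0, 1, 0, 6, 0, 1, 0, 0)
  | _ => one9

theorem det_mA : ∀ x < 8, (toMat (mA x)).det = 1 := by
  intro x hx
  interval_cases x <;> (simp only [mA, toMat, one9, Matrix.det_fin_three]; simp; try decide)

theorem mul_mB : ∀ x < 8, mul9 (mA x) (mB x) = one9 := by decide +kernel

theorem transpose_mA : ∀ x < 8, (toMat (mA x))ᵀ = toMat (mA x) := by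
  intro x hx
  interval_cases x <;> decide

def sA (x : ℕ) : S37 :=
  if hx : x < 8 then (⟨toMat (mA x), det_mA x hx⟩ : S37) else 1

theorem sA_val {x : ℕ} (hx : x < 6) : ((sA x : S37) : Matrix _ _ (ZMod 7)) = toMat (mA x) := by
  have h : sA x = (⟨toMat (mA x), det_mA x (by omega)⟩ : S37) := dif_pos (by omega)
  rw [h]

/-- The six involutions in the extension. -/
def xE : ℕ → Ext := fun x => if x < 6 then ⟨QuotientGroup.mk (sA x), Multiplicative.ofAdd 1⟩ else 1

theorem xE_mul {x y : ℕ} (hx : x < 6) (hy : y < 6) :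
    xE x * xE y = SemidirectProduct.inl (QuotientGroup.mk (sA x * (sA y)⁻¹)) := by
  have h1 : ¬ (Multiplicative.ofAdd (1 : ZMod 2) = 1) := by decide
  have h2 : Multiplicative.ofAdd (1 : ZMod 2) * Multiplicative.ofAdd 1 = 1 := by decide
  simp only [xE, if_pos hx, if_pos hy]
  refine SemidirectProduct.ext ?_ ?_
  · rw [SemidirectProduct.mul_left, SemidirectProduct.left_inl, QuotientGroup.mk_mul]
    congr 1
    have ht : twist (Multiplicative.ofAdd 1) = (AutPSL.Basic.iota : MulAut L37) :=
      if_neg (t := (1 : MulAut L37)) h1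
    rw [ht, AutPSL.Basic.iota, AutPSL.Basic.descend_mk]
    congr 1
    apply Subtype.ext
    rw [AutPSL.Basic.iotaSL_coe]
    rw [Matrix.SpecialLinearGroup.coe_inv, Matrix.adjugate_transpose, sA_val hy, transpose_mA y (by omega)]
  · rw [SemidirectProduct.mul_right, SemidirectProduct.right_inl]
    exact h2

theorem sA_inv_val {x : ℕ} (hx : x < 6) : (((sA x)⁻¹ : S37) : Matrix _ _ (ZMod 7)) = toMat (mB x) := by
  have h := congrArg toMat (mul_mB x (by omega))
  rw [toMat_mul, toMat_one, ← sA_val hx] at h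
  calc (((sA x)⁻¹ : S37) : Matrix _ _ (ZMod 7))
      = (((sA x)⁻¹ : S37) : Matrix _ _ (ZMod 7)) * ((sA x : Matrix _ _ (ZMod 7)) * toMat (mB x)) := by
        rw [h, mul_one]
    _ = toMat (mB x) := by
        rw [← mul_assoc, ← Matrix.SpecialLinearGroup.coe_mul, inv_mul_cancel]
        simp

/-- The product of a word taken in pairs. -/
def pairs9 : List ℕ → Nine → Nine
  | x :: y :: w, acc => pairs9 w (mul9 acc (mul9 (mA x) (mB y)))
  | [_], _ => one9
  | [], acc => acc

def evenIn : List ℕ → Bool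
  | x :: y :: w => Nat.blt x 6 && Nat.blt y 6 && evenIn w
  | [_] => false
  | [] => true

theorem evenIn_spec : ∀ {v : List ℕ}, evenIn v = true → ∀ y ∈ v, y < 6
  | [], _, y, hy => by simp at hy
  | [_], h, _, _ => by simp [evenIn] at h
  | x :: z :: v, h, y, hy => by
    simp only [evenIn, Bool.and_eq_true] at h
    rcases List.mem_cons.mp hy with rfl | hy
    · simpa [Nat.blt] using h.1.1
    rcases List.mem_cons.mp hy with rfl | hy
    · simpa [Nat.blt] using h.1.2
    · exact evenIn_spec h.2 y hy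

theorem word_value : ∀ (w : List ℕ), evenIn w = true → ∀ (acc : Nine) (s : S37),
    (s : Matrix _ _ (ZMod 7)) = toMat acc →
    ∃ t : S37, (t : Matrix _ _ (ZMod 7)) = toMat (pairs9 w acc) ∧
      SemidirectProduct.inl (QuotientGroup.mk s) * prodE xE w = SemidirectProduct.inl (QuotientGroup.mk t)
  | [], _, acc, s, hs => ⟨s, hs, by rw [prodE, mul_one]⟩
  | [_], h, _, _, _ => by simp [evenIn] at h
  | x :: y :: w, h, acc, s, hs => by
    simp only [evenIn, Bool.and_eq_true] at h
    have hx : x < 6 := by simpa [Nat.blt] using h.1.1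
    have hy : y < 6 := by simpa [Nat.blt] using h.1.2
    obtain ⟨t, ht, he⟩ := word_value w h.2 (mul9 acc (mul9 (mA x) (mB y))) (s * (sA x * (sA y)⁻¹)) (by
      rw [Matrix.SpecialLinearGroup.coe_mul, Matrix.SpecialLinearGroup.coe_mul, hs, sA_val hx, sA_inv_val hy,
        toMat_mul, toMat_mul])
    refine ⟨t, ht, ?_⟩
    rw [← he, prodE, prodE, ← mul_assoc (xE x), xE_mul hx hy, ← mul_assoc, ← map_mul]
    rfl

theorem word_inl {w : List ℕ} (h : evenIn w = true) : ∃ t : S37,
    (t : Matrix _ _ (ZMod 7)) = toMat (pairs9 w one9) ∧ prodE xE w = SemidirectProduct.inl (QuotientGroup.mk t) := by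
  obtain ⟨t, ht, he⟩ := word_value w h one9 1 (by rw [toMat_one]; rfl)
  exact ⟨t, ht, by rwa [QuotientGroup.mk_one, map_one, one_mul] at he⟩

def smul9 (c : ZMod 7) : Nine → Nine
  | (a, b, d, e, f, g, h, i, j) => (c * a, c * b, c * d, c * e, c * f, c * g, c * h, c * i, c * j)

theorem toMat_smul (c : ZMod 7) : ∀ x : Nine, toMat (smul9 c x) = c • toMat x
  | (a, b, d, e, f, g, h, i, j) => by
    ext p q
    fin_cases p <;> fin_cases q <;> simp [toMat, smul9]

/-- Whether a matrix is a multiple of another. -/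
def multChk (x y : Nine) : Bool := decide (x = y) || decide (x = smul9 2 y) || decide (x = smul9 4 y)

theorem multChk_spec {x y : Nine} (h : multChk x y = true) : ∃ c : ZMod 7, toMat x = c • toMat y := by
  simp only [multChk, Bool.or_eq_true, decide_eq_true_eq] at h
  rcases h with (rfl | rfl) | rfl
  · exact ⟨1, (one_smul _ _).symm⟩
  · exact ⟨2, toMat_smul _ _⟩
  · exact ⟨4, toMat_smul _ _⟩

def trivialE (w : List ℕ) : Bool := lbeq w [6, 7] || (evenIn w && multChk (pairs9 w one9) one9)

theorem six_ok : Six.sixWords.all trivialE = true := by decide +kernel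

theorem xE_words : ∀ w ∈ Six.sixWords, prodE xE w = 1 := by
  intro w hw
  have h := List.all_eq_true.mp six_ok w hw
  simp only [trivialE, Bool.or_eq_true, Bool.and_eq_true] at h
  rcases h with h | ⟨h1, h2⟩
  · rw [lbeq_iff h]; simp [prodE, xE]
  · obtain ⟨t, ht, he⟩ := word_inl h1
    obtain ⟨c, hc⟩ := multChk_spec h2
    rw [he, (AutPSL.Basic.mk_eq_one_iff t).mpr ⟨c, by rw [ht, hc, toMat_one]⟩, map_one]

theorem sq_words : ∀ x < 6, Six.sixWords.contains [x, x] = true := by decide +kernel

theorem xE_paired : Paired 8 ONTable.iv xE := by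
  refine ⟨fun x hx => (let8_paired).lt x hx, fun x hx => ?_⟩
  rcases Nat.lt_or_ge x 6 with h6 | h6
  · have h := xE_words [x, x] (by simpa using sq_words x h6)
    simp only [prodE, mul_one] at h
    have hi : ivL ONTable.iv x = x := by interval_cases x <;> decide
    rw [hi]
    exact (inv_eq_of_mul_eq_one_right h).symm
  · interval_cases x <;> simp [xE, ONTable.iv, ivL]

/-- The pairs of images. -/
def both (x : ℕ) : ON × Ext := (if x < 6 then let8 x else 1, xE x)

theorem both_fst : ∀ w : List ℕ, (∀ y ∈ w, y < 6) → (prodE both w).1 = prodE let8 w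
  | [], _ => rfl
  | y :: w, h => by
    rw [prodE, prodE, Prod.fst_mul, both_fst w fun z hz => h z (List.mem_cons_of_mem _ hz), both,
      if_pos (h y List.mem_cons_self)]

theorem both_snd : ∀ w : List ℕ, (prodE both w).2 = prodE xE w
  | [] => rfl
  | y :: w => by rw [prodE, prodE, Prod.snd_mul, both_snd w]; rfl

theorem both_paired : Paired 8 ONTable.iv both := by
  refine ⟨fun x hx => (let8_paired).lt x hx, fun x hx => Prod.ext ?_ (xE_paired.inv x hx)⟩
  show (if _ then _ else _) = (if _ then _ else _)⁻¹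
  have h := let8_paired.inv x hx
  interval_cases x <;> first | exact h | exact inv_one.symm

theorem both_words : ∀ w ∈ Six.sixWords, prodE both w = 1 := by
  intro w hw
  refine Prod.ext ?_ ((both_snd w).trans (xE_words w hw))
  obtain ⟨h1, h2⟩ := List.mem_filter.mp hw
  rcases Bool.or_eq_true _ _ ▸ h2 with h | h
  · rw [both_fst w (inRange_spec h)]; exact let8_base w h1
  · rw [lbeq_iff h]; rfl

/-- The graph of the map. -/
def graph : Subgroup (ON × Ext) := spanL both [0, 1, 2, 3, 4, 5]

theorem graph_small : InvCoset.Small graph 3753792 :=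
  Six.small_six both both_paired both_words

instance graph_finite : Finite graph := graph_small.1

theorem graph_fst : graph.map (MonoidHom.fst ON Ext) = hSub := by
  rw [hSub_eq_span, graph, spanL, spanL, MonoidHom.map_closure, ← Set.image_comp]
  refine congrArg Subgroup.closure (Set.image_congr fun x hx => ?_)
  have : x < 6 := by
    simp only [Set.mem_setOf_eq, List.mem_cons, List.not_mem_nil, or_false] at hx
    omega
  exact if_pos this

theorem fst_mem (p : graph) : (p : ON × Ext).1 ∈ hSub := graph_fst ▸ ⟨p, p.2, rfl⟩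

/-- The projection. -/
def proj : graph →* hSub := ((MonoidHom.fst ON Ext).comp graph.subtype).codRestrict hSub fst_mem

theorem proj_bij : Function.Bijective proj := by
  have hsurj : Function.Surjective proj := fun a => by
    obtain ⟨p, hp, he⟩ := (graph_fst.symm ▸ a.2 : (a : ON) ∈ graph.map (MonoidHom.fst ON Ext))
    exact ⟨⟨p, hp⟩, Subtype.ext he⟩
  refine (Nat.bijective_iff_surjective_and_card proj).mpr ⟨hsurj, ?_⟩
  exact le_antisymm (graph_small.2.trans_eq base_bound.1.symm) (Nat.card_le_card_of_surjective _ hsurj)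

/-- The map to the extension. -/
def theta : hSub →* Ext :=
  ((MonoidHom.snd ON Ext).comp graph.subtype).comp (MulEquiv.ofBijective proj proj_bij).symm.toMonoidHom

theorem theta_word (w : List ℕ) (hw : ∀ y ∈ w, y < 6) (a : hSub) (ha : (a : ON) = prodE let8 w) :
    theta a = prodE xE w := by
  have hp : prodE both w ∈ graph := by
    clear ha
    induction w with
    | nil => exact one_mem _
    | cons y w ih =>
      refine mul_mem (mem_spanL both ?_) (ih fun z hz => hw z (List.mem_cons_of_mem _ hz))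
      have := hw y List.mem_cons_self
      simp only [List.mem_cons, List.not_mem_nil, or_false]
      omega
  have h : (MulEquiv.ofBijective proj proj_bij).symm a = ⟨prodE both w, hp⟩ := by
    rw [MulEquiv.symm_apply_eq]
    exact Subtype.ext (ha.trans (both_fst w hw).symm)
  show ((MonoidHom.snd ON Ext).comp graph.subtype) ((MulEquiv.ofBijective proj proj_bij).symm a) = _
  rw [h]
  exact both_snd w

/-- The subgroup of index two. -/
def evenSub : Subgroup hSub := (SemidirectProduct.rightHom.comp theta).ker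

theorem even_index : evenSub.index = 2 := by
  rw [evenSub, Subgroup.index_ker, MonoidHom.range_eq_top_of_surjective, Subgroup.card_top,
    Nat.card_congr Multiplicative.toAdd, Nat.card_zmod]
  intro z
  have h : ∀ u : Multiplicative (ZMod 2), u = 1 ∨ u = Multiplicative.ofAdd 1 := by decide
  rcases h z with rfl | rfl
  · exact ⟨1, map_one _⟩
  · refine ⟨⟨let8 0, mem_hSub (by decide)⟩, ?_⟩
    rw [MonoidHom.comp_apply, theta_word [0] (by decide) _ (mul_one _).symm, prodE, prodE, mul_one]
    rfl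

/-- The map to PSL(3,7). -/
def rho : evenSub →* L37 where
  toFun a := (theta a.1).left
  map_one' := by simp
  map_mul' a b := by
    have ha : (theta a.1).right = 1 := a.2
    show (theta (a.1 * b.1)).left = _
    rw [map_mul, SemidirectProduct.mul_left, ha, map_one]
    rfl

theorem mem_of_word {w : List ℕ} (h : evenIn w = true) {c : ZMod 7} {t : S37}
    (ht : toMat (pairs9 w one9) = c • (t : Matrix _ _ (ZMod 7))) :
    QuotientGroup.mk t ∈ rho.range := by
  obtain ⟨u, hu, he⟩ := word_inl h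
  have hw := evenIn_spec h
  have hmem : prodE let8 w ∈ hSub := by
    clear h ht hu he
    induction w with
    | nil => exact one_mem _
    | cons y w ih =>
      exact mul_mem (mem_hSub (hw y List.mem_cons_self)) (ih fun z hz => hw z (List.mem_cons_of_mem _ hz))
  have hth := theta_word w hw ⟨_, hmem⟩ rfl
  have hN : (⟨_, hmem⟩ : hSub) ∈ evenSub := by
    show SemidirectProduct.rightHom (theta _) = 1
    rw [hth, he, SemidirectProduct.rightHom_inl]
  refine ⟨⟨_, hN⟩, ?_⟩
  show (theta ⟨_, hmem⟩).left = _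
  rw [hth, he, SemidirectProduct.left_inl]
  exact ((AutPSL.Basic.mk_eq_mk_iff t u).mpr ⟨c, hu.trans ht⟩).symm

theorem transv01 : QuotientGroup.mk (Matrix.SpecialLinearGroup.transvection (show (0 : Fin 3) ≠ 1 by decide) (1 : ZMod 7)) ∈
    rho.range := by
  obtain ⟨c, hc⟩ := multChk_spec (x := pairs9 [0, 1, 2, 3, 2, 1, 3, 4, 3, 2, 1, 3, 2, 1, 4, 3, 2, 1, 0, 3, 2, 4, 3, 2, 1, 0] one9) (y := (1, 1, 0, 0, 1, 0, 0, 0, 1)) (by decide +kernel)
  refine mem_of_word (c := c) (by decide +kernel) (hc.trans (congrArg _ ?_))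
  ext p q
  fin_cases p <;> fin_cases q <;>
    simp [toMat, Matrix.SpecialLinearGroup.transvection_coe, Matrix.transvection, Matrix.single_apply] <;> decide

theorem transv02 : QuotientGroup.mk (Matrix.SpecialLinearGroup.transvection (show (0 : Fin 3) ≠ 2 by decide) (1 : ZMod 7)) ∈
    rho.range := by
  obtain ⟨c, hc⟩ := multChk_spec (x := pairs9 [1, 0, 2, 4, 3, 2, 1, 5, 4, 3, 2, 1, 3, 2, 1, 3, 4, 3, 2, 1, 3, 2, 4, 3, 2, 1, 5, 4] one9) (y := (1, 0, 1, 0, 1, 0, 0, 0, 1)) (by decide +kernel)
  refine mem_of_word (c := c) (by decide +kernel) (hc.trans (congrArg _ ?_))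
  ext p q
  fin_cases p <;> fin_cases q <;>
    simp [toMat, Matrix.SpecialLinearGroup.transvection_coe, Matrix.transvection, Matrix.single_apply] <;> decide

theorem transv10 : QuotientGroup.mk (Matrix.SpecialLinearGroup.transvection (show (1 : Fin 3) ≠ 0 by decide) (1 : ZMod 7)) ∈
    rho.range := by
  obtain ⟨c, hc⟩ := multChk_spec (x := pairs9 [1, 0, 2, 3, 2, 1, 4, 3, 2, 1, 3, 2, 1, 3, 4, 3, 2, 1, 3, 2, 4, 3, 2, 1] one9) (y := (1, 0, 0, 1, 1, 0, 0, 0, 1)) (by decide +kernel)
  refine mem_of_word (c := c) (by decide +kernel) (hc.trans (congrArg _ ?_))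
  ext p q
  fin_cases p <;> fin_cases q <;>
    simp [toMat, Matrix.SpecialLinearGroup.transvection_coe, Matrix.transvection, Matrix.single_apply] <;> decide

theorem transv12 : QuotientGroup.mk (Matrix.SpecialLinearGroup.transvection (show (1 : Fin 3) ≠ 2 by decide) (1 : ZMod 7)) ∈
    rho.range := by
  obtain ⟨c, hc⟩ := multChk_spec (x := pairs9 [0, 1, 0, 3, 2, 3, 2, 1, 4, 3, 2, 1, 3, 2, 1, 3, 4, 3, 2, 1, 3, 2, 4, 3, 2, 1, 0, 3] one9) (y := (1, 0, 0, 0, 1, 1, 0, 0, 1)) (by decide +kernel)
  refine mem_of_word (c := c) (by decide +kernel) (hc.trans (congrArg _ ?_))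
  ext p q
  fin_cases p <;> fin_cases q <;>
    simp [toMat, Matrix.SpecialLinearGroup.transvection_coe, Matrix.transvection, Matrix.single_apply] <;> decide

theorem transv20 : QuotientGroup.mk (Matrix.SpecialLinearGroup.transvection (show (2 : Fin 3) ≠ 0 by decide) (1 : ZMod 7)) ∈
    rho.range := by
  obtain ⟨c, hc⟩ := multChk_spec (x := pairs9 [0, 1, 0, 4, 3, 2, 3, 2, 1, 4, 3, 2, 1, 3, 2, 1, 3, 4, 3, 2, 1, 3, 2, 4, 3, 2, 1, 0, 3, 4] one9) (y := (1, 0, 0, 0, 1, 0, 1, 0, 1)) (by decide +kernel)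
  refine mem_of_word (c := c) (by decide +kernel) (hc.trans (congrArg _ ?_))
  ext p q
  fin_cases p <;> fin_cases q <;>
    simp [toMat, Matrix.SpecialLinearGroup.transvection_coe, Matrix.transvection, Matrix.single_apply] <;> decide

theorem transv21 : QuotientGroup.mk (Matrix.SpecialLinearGroup.transvection (show (2 : Fin 3) ≠ 1 by decide) (1 : ZMod 7)) ∈
    rho.range := by
  obtain ⟨c, hc⟩ := multChk_spec (x := pairs9 [1, 0, 2, 3, 2, 1, 5, 4, 3, 2, 1, 3, 2, 1, 3, 4, 3, 2, 1, 3, 2, 4, 3, 2, 1, 5] one9) (y := (1, 0, 0, 0, 1, 0, 0, 1, 1)) (by decide +kernel)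
  refine mem_of_word (c := c) (by decide +kernel) (hc.trans (congrArg _ ?_))
  ext p q
  fin_cases p <;> fin_cases q <;>
    simp [toMat, Matrix.SpecialLinearGroup.transvection_coe, Matrix.transvection, Matrix.single_apply] <;> decide

theorem transv_all : ∀ (i j : Fin 3) (h : i ≠ j),
    QuotientGroup.mk (Matrix.SpecialLinearGroup.transvection h (1 : ZMod 7)) ∈ rho.range
  | 0, 0, h | 1, 1, h | 2, 2, h => absurd rfl h
  | 0, 1, _ => transv01
  | 0, 2, _ => transv02
  | 1, 0, _ => transv10
  | 1, 2, _ => transv12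
  | 2, 0, _ => transv20
  | 2, 1, _ => transv21

theorem rho_surjective : Function.Surjective rho := by
  rw [← MonoidHom.range_eq_top, eq_top_iff]
  rintro x -
  induction x using QuotientGroup.induction_on with | H s => ?_
  have hs : s ∈ Subgroup.closure {g : S37 | ∃ (i j : Fin 3) (h : i ≠ j),
      g = Matrix.SpecialLinearGroup.transvection h 1} := by
    rw [Classical.PermModel.closure_zmod_transvections]; exact Subgroup.mem_top _
  induction hs using Subgroup.closure_induction with
  | mem g hg =>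
    obtain ⟨i, j, h, rfl⟩ := hg
    exact transv_all i j h
  | one => exact one_mem _
  | mul g g' _ _ hg hg' => rw [QuotientGroup.mk_mul]; exact mul_mem hg hg'
  | inv g _ hg => rw [QuotientGroup.mk_inv]; exact inv_mem hg

theorem card_L37 : Nat.card L37 = 1876896 := by
  have h1 := Classical.Linear.gcd_mul_natCard_PSL_fin (F := ZMod 7) (k := 3) (by norm_num)
  have h2 := Classical.Linear.mul_natCard_SL_fin (F := ZMod 7) (k := 3) (by norm_num)
  rw [ZMod.card] at h1 h2
  rw [← h1, Fin.prod_univ_three] at h2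
  norm_num at h2
  rw [Nat.card_eq_fintype_card]
  linarith

theorem evenSub_equiv : Nonempty (evenSub ≃* L37) := by
  have h := evenSub.card_mul_index
  rw [even_index, base_bound.1] at h
  haveI : Finite evenSub := Subtype.finite
  exact ⟨MulEquiv.ofBijective rho
    ((Nat.bijective_iff_surjective_and_card rho).mpr ⟨rho_surjective, by rw [card_L37]; omega⟩)⟩

end Cfsg.Agent.ONGroup.PSLModel
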