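import Cfsg.Agent.Lib.ONGroup.Bound

/-!
# The same bound in any group with the relations among the six involutions
-/

set_option autoImplicit false
set_option linter.all false

noncomputable section

namespace Cfsg.Agent.ONGroup.Six

open Cfsg.Spor Cfsg.Agent.InvCoset

/-- The relators in the six involutions alone. -/
def sixWords : List (List ℕ) :=
  (ONTable.W0 ++ ONTable.Wsq).filter fun w => inRange 6 w || lbeq w [6, 7]

theorem six_range : ∀ w ∈ sixWords, ∀ y ∈ w, y < 8 := fun w hw => base_range w
  (List.mem_append_left _ (List.mem_filter.mp hw).1)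

variable {A : Type*} [Group A] (e : ℕ → A) (hp : Paired 8 ONTable.iv e) (h6 : ∀ w ∈ sixWords, prodE e w = 1)
include hp h6

/-- Every word of a certified list is trivial once it is among the rotations of trivial words. -/
theorem triv_of_rots {R L : List (List ℕ)} (hL : inRange 8 L.flatten = true)
    (h1 : ∀ w ∈ L, prodE e w = 1) (h : subOf R (allRots ONTable.iv L) = true) : ∀ w ∈ R, prodE e w = 1 :=
  fun w hw => prodE_allRots hp
    (fun v hv y hy => inRange_spec hL y (List.mem_flatten.mpr ⟨v, hv, hy⟩)) h1 w (subOf_spec h w hw)

theorem rots_base {R : List (List ℕ)} (h : subOf R (allRots ONTable.iv (sixWords)) = true) :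
    ∀ w ∈ R, prodE e w = 1 :=
  fun w hw => prodE_allRots hp (fun v hv => six_range v hv) h6 w
    (subOf_spec h w hw)

theorem chainH_words : ∀ w ∈ ONTable.chainHW, prodE e w = 1 := (rots_base e hp h6) (by decide +kernel)

theorem baseD_words : ∀ w ∈ ONTable.baseD, prodE e w = 1 := (rots_base e hp h6) (by decide +kernel)

theorem triv_d : prodE e ONTable.goalD = 1 :=
  loop_triv (C := ONTable.CD) e hp ((triv_of_rots e hp h6) ONTable.rangeD (baseD_words e hp h6) ONTable.rotsD) rfl
    ONTable.startD ONTable.allD _ _ ONTable.loopD

theorem with_goal {R : List (List ℕ)}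
    (h : subOf R (allRots ONTable.iv (sixWords ++ [ONTable.goalD])) = true) :
    ∀ w ∈ R, prodE e w = 1 := by
  refine fun w hw => prodE_allRots hp ?_ ?_ w (subOf_spec h w hw)
  · intro v hv
    rcases List.mem_append.mp hv with hv | hv
    · exact six_range v hv
    · rw [List.mem_singleton] at hv
      exact fun y hy => inRange_spec (by decide +kernel : inRange 8 ONTable.goalD = true) y (hv ▸ hy)
  · intro v hv
    rcases List.mem_append.mp hv with hv | hv
    · exact h6 v hv
    · rw [List.mem_singleton] at hv
      exact hv ▸ (triv_d e hp h6)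

theorem chainD_words : ∀ w ∈ ONTable.chainDW, prodE e w = 1 := (with_goal e hp h6) (by decide +kernel)

theorem baseE_words : ∀ w ∈ ONTable.baseE, prodE e w = 1 := (with_goal e hp h6) (by decide +kernel)

theorem chainC_words : ∀ w ∈ ONTable.chainCW, prodE e w = 1 := (rots_base e hp h6) (by decide +kernel)

theorem chainB_words : ∀ w ∈ ONTable.chainBW, prodE e w = 1 := (rots_base e hp h6) (by decide +kernel)

theorem chainA_words : ∀ w ∈ ONTable.chainAW, prodE e w = 1 := (rots_base e hp h6) (by decide +kernel)

theorem paired_small {K : ℕ} (hK : K ≤ 6) : Paired K ONTable.ivH e := by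
  refine ⟨fun x hx => ?_, fun x hx => ?_⟩
  · have : ivL ONTable.ivH x = x := by
      have hx6 : x < 6 := by omega
      interval_cases x <;> decide
    omega
  · have hx6 : x < 6 := by omega
    have h := hp.inv x (by omega)
    interval_cases x <;> exact h

theorem seedE_mem : prodE e ONTable.goalE ∈ spanL e [0, 1, 2] := by
  have h := loop_fix (C := ONTable.CE) (Q := A ⧸ spanL e [0, 1, 2]) e (QuotientGroup.mk 1)
    ⟨hp, (triv_of_rots e hp h6) ONTable.rangeE (baseE_words e hp h6) ONTable.rotsE, fun x hx => ?_⟩
    ONTable.startE ONTable.allE _ _ ONTable.loopE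
  · rw [actW_eq, MulAction.Quotient.smul_mk, smul_eq_mul, mul_one, QuotientGroup.eq, mul_one, inv_inv] at h
    exact h
  · rw [MulAction.Quotient.smul_mk, smul_eq_mul, mul_one, QuotientGroup.eq, mul_one, inv_inv]
    exact mem_spanL e hx

theorem letter_mem {l : List ℕ} {w : List ℕ} (hw : ∀ y ∈ w, y ∈ l) : prodE e w ∈ spanL e l := by
  induction w with
  | nil => exact one_mem _
  | cons y w ih =>
    exact mul_mem (mem_spanL e (hw y List.mem_cons_self)) (ih fun z hz => hw z (List.mem_cons_of_mem _ hz))

theorem small_a : Small (spanL e [0]) 2 := by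
  have h := Small.step ONTable.chainA_certified e ((paired_small e hp h6) (by decide)) (chainA_words e hp h6)
    (small_bot (G := A)) bot_le (fun s hs => by simp [ONTable.chainASeeds] at hs)
  exact h

theorem small_ab : Small (spanL e [0, 1]) 6 := by
  have h := Small.step ONTable.chainB_certified e ((paired_small e hp h6) (by decide)) (chainB_words e hp h6) (small_a e hp h6)
    (spanL_mono e (by decide)) (fun s hs => by
      simp only [ONTable.chainBSeeds, List.mem_cons, List.not_mem_nil, or_false] at hs
      subst hs
      exact (letter_mem e hp h6) (by decide))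
  exact h

theorem small_abc : Small (spanL e [0, 1, 2]) 24 := by
  have h := Small.step ONTable.chainC_certified e ((paired_small e hp h6) (by decide)) (chainC_words e hp h6) (small_ab e hp h6)
    (spanL_mono e (by decide)) (fun s hs => by
      simp only [ONTable.chainCSeeds, List.mem_cons, List.not_mem_nil, or_false] at hs
      rcases hs with rfl | rfl <;> exact (letter_mem e hp h6) (by decide))
  exact h

theorem small_abcd : Small (spanL e [0, 1, 2, 3]) 672 := by
  have h := Small.step ONTable.chainD_certified e ((paired_small e hp h6) (by decide)) (chainD_words e hp h6) (small_abc e hp h6)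
    (spanL_mono e (by decide)) (fun s hs => by
      simp only [ONTable.chainDSeeds, List.mem_cons, List.not_mem_nil, or_false] at hs
      rcases hs with rfl | rfl | rfl | rfl
      all_goals first
        | exact (seedE_mem e hp h6)
        | exact (letter_mem e hp h6) (by decide))
  exact h

theorem small_six : Small (spanL e [0, 1, 2, 3, 4, 5]) 3753792 := by
  have h := Small.step ONTable.chainH_certified e ((paired_small e hp h6) (by decide)) (chainH_words e hp h6) (small_abcd e hp h6)
    (spanL_mono e (by decide)) (fun s hs => by
      simp only [ONTable.chainHSeeds, List.mem_cons, List.not_mem_nil, or_false] at hs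
      rcases hs with rfl | rfl | rfl | rfl <;> exact (letter_mem e hp h6) (by decide))
  exact h

end Cfsg.Agent.ONGroup.Six
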